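import Cfsg.Agent.Base
import Cfsg.Agent.S1523

/-!
# A congruence for characters constant on the non-identity elements of a subgroup
-/

set_option autoImplicit false
set_option linter.style.haveILetI false

open Cfsg CL.Char Cfsg.Agent.S1523

namespace CL.RankOne

/-- Let `Q` act freely by conjugation on the pairs of conjugates of elements of `Z^#` which do not lie in
`Z`.  An irreducible character constant on `Z^#` satisfies `ψ z ≡ ψ 1` modulo `|Q|`. -/
theorem const_congruence {G : Type*} [Group G] [Finite G] (Q Z : Subgroup G)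
    (F2 : ∀ x ∈ Q, x ≠ 1 → ∀ w ∈ Z, w ≠ 1 → ∀ u, IsConj w u → x * u * x⁻¹ = u → u ∈ Z)
    {ψ : G → ℂ} (hψ : IsIrrCharacter G ψ)
    (hconst : ∀ z ∈ Z, ∀ z' ∈ Z, z ≠ 1 → z' ≠ 1 → ψ z = ψ z') {z : G} (hz : z ∈ Z) (hz1 : z ≠ 1)
    (hnr : ¬ IsConj z z⁻¹)
    (hcop : Nat.Coprime (Nat.card Q) (Subgroup.centralizer ({z} : Set G)).index) :
    ∃ n d : ℤ, ψ z = n ∧ ψ 1 = d ∧ (Nat.card Q : ℤ) ∣ d - n := by
  classical
  letI := Fintype.ofFinite G
  let act : Q → G × G → G × G := fun x y => (x * y.1 * (x : G)⁻¹, x * y.2 * (x : G)⁻¹)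
  have hsm' : ∀ (x : Q) (y : G × G), (act x y).1 * (act x y).2 = x * (y.1 * y.2) * (x : G)⁻¹ := by
    intro x y; simp only [act]; group
  have split : ∀ b ∈ Z, b ≠ 1 → ∃ (n : ℕ) (T : Finset (G × G)), ∀ f : G → ℂ,
      IsClassFunction G f → (∀ w ∈ Z, w ≠ 1 → f w = f z) →
      ∑ x ∈ Finset.univ.filter (IsConj z) ×ˢ Finset.univ.filter (IsConj b), f (x.1 * x.2) =
        (((Finset.univ.filter (IsConj z) ×ˢ Finset.univ.filter (IsConj b)).filter
          (fun x => x.1 * x.2 = 1)).card : ℂ) * f 1 + n * f z +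
          (Nat.card Q : ℂ) * ∑ x ∈ T, f (x.1 * x.2) := by
    intro b hb hb1
    set S := Finset.univ.filter (IsConj z) ×ˢ Finset.univ.filter (IsConj b) with hS
    have hmem : ∀ y, y ∈ S ↔ IsConj z y.1 ∧ IsConj b y.2 := by
      intro y; simp [hS]
    obtain ⟨T, hT⟩ := exists_transversal_of_free' act (fun y => by simp [act])
      (fun a b y => by simp [act, mul_assoc])
      (S.filter fun x => ¬ ∃ w ∈ Z, IsConj w (x.1 * x.2)) (fun g y hy => by
        rw [Finset.mem_filter, hmem] at hy ⊢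
        refine ⟨⟨hy.1.1.trans (isConj_iff.2 ⟨g, rfl⟩), hy.1.2.trans (isConj_iff.2 ⟨g, rfl⟩)⟩,
          fun ⟨w, hw, hc⟩ => hy.2 ⟨w, hw, hc.trans ?_⟩⟩
        rw [hsm']
        exact (isConj_iff.2 ⟨(g : G), rfl⟩).symm)
      (fun y hy g hg => by
        rw [Finset.mem_filter, hmem] at hy
        by_contra hg1
        have hg1' : (g : G) ≠ 1 := fun h => hg1 (Subtype.ext h)
        rw [Prod.ext_iff] at hg
        exact hy.2 ⟨_, Z.mul_mem (F2 g g.2 hg1' z hz hz1 _ hy.1.1 hg.1)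
          (F2 g g.2 hg1' b hb hb1 _ hy.1.2 hg.2), IsConj.refl _⟩)
    refine ⟨((S.filter fun x => ∃ w ∈ Z, IsConj w (x.1 * x.2)).filter
      fun x => ¬ x.1 * x.2 = 1).card, T, fun f hf hfz => ?_⟩
    rw [← Finset.sum_filter_add_sum_filter_not S (fun x => ∃ w ∈ Z, IsConj w (x.1 * x.2)),
      hT (fun x => f (x.1 * x.2)) (fun g y => by rw [hsm']; exact hf _ _),
      ← Finset.sum_filter_add_sum_filter_not _ (fun x : G × G => x.1 * x.2 = 1)]
    congr 2
    · rw [Finset.filter_filter, Finset.sum_congr rfl (g := fun _ => f 1)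
        (fun x hx => by rw [(Finset.mem_filter.1 hx).2.2]), Finset.sum_const, nsmul_eq_mul]
      congr 3
      refine Finset.filter_congr fun x _ => ?_
      exact ⟨fun h => h.2, fun h => ⟨⟨1, Z.one_mem, h ▸ IsConj.refl _⟩, h⟩⟩
    · rw [Finset.sum_congr rfl (g := fun _ => f z), Finset.sum_const, nsmul_eq_mul]
      intro x hx
      simp only [Finset.mem_filter] at hx
      obtain ⟨⟨-, w, hw, hc⟩, hne⟩ := hx
      rw [← classFun_eq_of_isConj hf hc]
      exact hfz w hw (by rintro rfl; exact hne (isConj_one_right.1 hc))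
  obtain ⟨n₁, T₁, h₁⟩ := split z hz hz1
  obtain ⟨n₂, T₂, h₂⟩ := split z⁻¹ (Z.inv_mem hz) (inv_ne_one.2 hz1)
  set N := (Subgroup.centralizer ({z} : Set G)).index with hN
  have hN' : (Subgroup.centralizer ({z⁻¹} : Set G)).index = N := by
    rw [hN]; congr 1; ext x
    simp only [Subgroup.mem_centralizer_singleton_iff]
    exact ⟨fun h => (Commute.inv_right_iff.1 h).eq, fun h => (Commute.inv_right h).eq⟩
  have e₁ : (Finset.univ.filter (IsConj z) ×ˢ Finset.univ.filter (IsConj z)).filter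
      (fun x => x.1 * x.2 = 1) = ∅ := by
    rw [Finset.filter_eq_empty_iff]
    intro x hx h
    simp only [Finset.mem_product, Finset.mem_filter, Finset.mem_univ, true_and] at hx
    have h1 : IsConj z z⁻¹ := by
      have h2 := hx.1
      rw [eq_inv_of_mul_eq_one_left h] at h2
      obtain ⟨c, hc⟩ := isConj_iff.1 hx.2
      exact h2.trans (isConj_iff.2 ⟨c, by rw [← hc]; group⟩).symm
    exact hnr h1
  have e₂ : ((Finset.univ.filter (IsConj z) ×ˢ Finset.univ.filter (IsConj z⁻¹)).filter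
      (fun x => x.1 * x.2 = 1)).card = N := by
    rw [hN, ← card_filter_isConj]
    refine Finset.card_bij (fun x _ => x.1) (fun x hx => ?_) (fun x hx y hy h => ?_)
      (fun u hu => ⟨(u, u⁻¹), ?_, rfl⟩)
    · exact (Finset.mem_product.1 (Finset.mem_filter.1 hx).1).1
    · have h1 := eq_inv_of_mul_eq_one_right (Finset.mem_filter.1 hx).2
      have h2 := eq_inv_of_mul_eq_one_right (Finset.mem_filter.1 hy).2
      exact Prod.ext h (by rw [h1, h2, h])
    · simp only [Finset.mem_filter, Finset.mem_product, Finset.mem_univ, true_and] at hu ⊢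
      obtain ⟨c, hc⟩ := isConj_iff.1 hu
      exact ⟨⟨hu, isConj_iff.2 ⟨c, by rw [← hc]; group⟩⟩, mul_inv_cancel u⟩
  rw [e₁] at h₁
  rw [e₂] at h₂
  have a₁ := h₁ ψ (irr_isClassFunction hψ) fun w hw hw1 => hconst w hw z hz hw1 hz1
  have a₂ := h₂ ψ (irr_isClassFunction hψ) fun w hw hw1 => hconst w hw z hz hw1 hz1
  have b₁ := h₁ _ (irr_isClassFunction irr_one) fun _ _ _ => rfl
  have b₂ := h₂ _ (irr_isClassFunction irr_one) fun _ _ _ => rfl
  rw [sum_class_mul hψ] at a₁ a₂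
  rw [sum_class_mul irr_one] at b₁ b₂
  rw [hN', hconst _ (Z.inv_mem hz) z hz (inv_ne_one.2 hz1) hz1] at a₂
  rw [hN'] at b₂
  simp only [Finset.card_empty, Nat.cast_zero, zero_mul, zero_add, mul_one, Finset.sum_const,
    nsmul_eq_mul] at a₁ b₁ b₂
  obtain ⟨n, hn⟩ := gen_exists_int_of_forall_pow (gen_of_irr hψ) (orderOf_pos z).ne' dvd_rfl
    (fun k hk => hconst _ (Z.pow_mem hz k) z hz (fun h => hz1 (by
      have := orderOf_dvd_of_pow_eq_one h
      exact orderOf_eq_one_iff.1 (Nat.Coprime.eq_one_of_dvd hk.symm this))) hz1)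
  refine ⟨n, deg ψ, hn, by rw [Int.cast_natCast, irr_cast_deg hψ], ?_⟩
  have hint : ∀ T : Finset (G × G), IsIntegral ℤ (∑ x ∈ T, ψ (x.1 * x.2)) := fun T =>
    IsIntegral.sum _ fun x _ => char_isIntegral (irr_isCharacter hψ) _
  have hQ0 : (Nat.card Q : ℂ) ≠ 0 := Nat.cast_ne_zero.2 Nat.card_pos.ne'
  have key : (((N : ℤ) * (deg ψ - n) : ℤ) : ℂ) / ((Nat.card Q : ℤ) : ℂ) =
      ((T₂.card : ℂ) - T₁.card) * n + ∑ x ∈ T₁, ψ (x.1 * x.2) - ∑ x ∈ T₂, ψ (x.1 * x.2) := by
    push_cast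
    rw [div_eq_iff hQ0, irr_cast_deg hψ, ← hn]
    linear_combination a₁ - a₂ - ψ z * (b₁ - b₂)
  have hdvd := int_dvd_of_isIntegral_div (Int.natCast_ne_zero.2 (Nat.card_pos (α := Q)).ne')
    (key ▸ ((((isIntegral_natCast _).sub (isIntegral_natCast _)).mul
      (isIntegral_intCast _)).add (hint T₁)).sub (hint T₂))
  refine IsCoprime.dvd_of_dvd_mul_left ?_ hdvd
  rw [Nat.isCoprime_iff_coprime]
  exact hcop

end CL.RankOne
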