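import Cfsg.Agent.Base
import Cfsg.Agent.PF.Feit
import Cfsg.Agent.Char.Product

/-!
# Coherence of the characters non-trivial on a central subgroup of a nilpotent normal subgroup

`K = S × P` is a nilpotent normal subgroup of `L` of odd index, `P` a `p`-group with `p` odd and `Z ≤ P` a
normal subgroup of `L`, central in `K`, whose non-identity elements have their centralisers in `K`.
-/

set_option autoImplicit false
set_option linter.style.haveILetI false

open Cfsg CL.Char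
open scoped ComplexConjugate

namespace CL.PF

variable {L : Type*} [Group L] [Fintype L] {G : Type*} [Group G] [Fintype G]
variable {S : Set (L → ℂ)} {τ : (L → ℂ) → (G → ℂ)} {R : (L → ℂ) → Finset (G → ℂ)}

/-- Non-reality. -/
theorem seqIndD_conjFun_ne_of_central {K Z Y : Subgroup L} [K.Normal] (he : Odd K.index)
    (hZ : Odd (Nat.card Z)) (hZc : ∀ z ∈ Z, ∀ k ∈ K, z * k = k * z) {φ : L → ℂ}
    (h : φ ∈ seqIndD K Z Y) : conjFun φ ≠ φ := by
  obtain ⟨θ, hθ, hZθ, -, rfl⟩ := h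
  intro h
  have : Fintype K := Fintype.ofFinite K
  rw [← indFun_conjFun, indFun_eq_iff_mem_conjOrbit K hθ (irr_conjFun hθ)] at h
  obtain ⟨g, hg⟩ := (mem_conjOrbit K).1 h
  have h2 : g * g ∈ inertia K θ := by
    rw [mem_inertia_iff, conjChar_mul, ← hg]
    change conjFun (conjChar K g θ) = θ
    rw [← hg, conjFun_conjFun]
  have h3 : g ^ K.index ∈ inertia K θ :=
    le_inertia K (irr_isClassFunction hθ) (Subgroup.pow_index_mem K g)
  obtain ⟨m, hm⟩ := he
  have h4 : g ∈ inertia K θ := by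
    rw [hm, pow_succ, pow_mul, pow_two] at h3
    exact (Subgroup.mul_mem_cancel_left _ (Subgroup.pow_mem _ h2 m)).1 h3
  rw [(mem_inertia_iff K).1 h4] at hg
  apply hZθ
  intro z hz
  obtain ⟨c, -, hc⟩ := irr_center_le_charCenter hθ
    (Subgroup.mem_center_iff.2 fun k => Subtype.ext (hZc z hz k k.2).symm : z ∈ _)
  have h1 : θ 1 ≠ 0 := by
    rw [← irr_cast_deg hθ]; exact Nat.cast_ne_zero.2 (irr_deg_pos hθ).ne'
  have hpow : ∀ n : ℕ, θ (z ^ n) = c ^ n * θ 1 := by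
    intro n
    induction n with
    | zero => simp
    | succ n ih => rw [pow_succ', hc, ih]; ring
  have hz1 : θ z = c * θ 1 := by simpa using hpow 1
  have hzn : z ^ Nat.card Z = 1 := by
    apply Subtype.ext
    have : (⟨z, hz⟩ : Z) ^ Nat.card Z = 1 := pow_card_eq_one'
    exact congrArg (fun x : Z => (x : L)) this
  have hcn : c ^ Nat.card Z = 1 := by
    have := hpow (Nat.card Z)
    rw [hzn] at this
    exact mul_right_cancel₀ h1 (this.symm.trans (one_mul _).symm)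
  have hreal : conj c = c := by
    have h5 : conj (θ z) = θ z := congrFun hg z
    rw [hz1, map_mul, irr_conj_apply_one hθ] at h5
    exact mul_right_cancel₀ h1 h5
  have hc2 : c * c = 1 := by
    have hn : ‖c‖ = 1 := Complex.norm_eq_one_of_pow_eq_one hcn Nat.card_pos.ne'
    have := Complex.mul_conj c
    rw [hreal, Complex.normSq_eq_norm_sq, hn] at this
    simpa using this
  obtain ⟨k, hk⟩ := hZ
  rw [hk, pow_succ, pow_mul, pow_two, hc2, one_pow, one_mul] at hcn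
  rw [hz1, hcn, one_mul]

/-- The argument of (6.6) for degrees of the form `e p ^ k`. -/
theorem coherent_of_ppow (hS : IsCoherenceSystem S τ R) {X : Set (L → ℂ)} (hXS : ConjSub X S)
    (F : Finset (L → ℂ)) (hF : ∀ χ, χ ∈ F ↔ χ ∈ X) (hne : X.Nonempty)
    (hirr : ∀ χ ∈ X, IsIrrCharacter L χ) {p e : ℕ} (hp : p.Prime) (hp2 : p ≠ 2) (he : 0 < e)
    (hcop : Nat.Coprime e p)
    (hdeg : ∀ χ ∈ X, ∃ k, deg χ = e * p ^ k ∧ p ^ (2 * k) ∣ ∑ φ ∈ F, deg φ ^ 2) :
    IsCoherent X {1}ᶜ τ := by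
  classical
  have hre : ∀ χ ∈ X, (χ 1).re = deg χ := fun χ hχ => by
    rw [← irr_cast_deg (hirr χ hχ), Complex.natCast_re]
  have hcs : ∀ n, ConjSub {χ | χ ∈ X ∧ deg χ ≤ n} S := fun n =>
    ⟨fun χ hχ => hXS.subset hχ.1, fun χ hχ => ⟨hXS.conj_mem χ hχ.1, by
      have : deg (conjFun χ) = deg χ := by
        rw [deg, char_conjFun_apply_one (irr_isCharacter (hirr χ hχ.1)), deg]
      rw [this]; exact hχ.2⟩⟩
  have key : ∀ n, {χ | χ ∈ X ∧ deg χ ≤ n}.Nonempty → IsCoherent {χ | χ ∈ X ∧ deg χ ≤ n} {1}ᶜ τ := by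
    intro n
    induction n with
    | zero =>
      rintro ⟨χ, h1, h2⟩
      exact absurd (irr_deg_pos (hirr χ h1)) (by omega)
    | succ n ih =>
      intro hne
      by_cases hn : {χ | χ ∈ X ∧ deg χ ≤ n}.Nonempty
      · have := extend_coherent_union hS (hcs n) (hcs (n + 1)) (ih hn) fun χ hχ hχ1 => ?_
        · have hsub : {χ | χ ∈ X ∧ deg χ ≤ n} ⊆ {χ | χ ∈ X ∧ deg χ ≤ n + 1} :=
            fun χ hχ => ⟨hχ.1, hχ.2.trans n.le_succ⟩
          rwa [Set.union_eq_right.2 hsub] at this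
        obtain ⟨χ₁, hχ₁⟩ := hn
        have hχn : deg χ = n + 1 := by
          have : ¬ deg χ ≤ n := fun h => hχ1 ⟨hχ.1, h⟩
          have := hχ.2
          omega
        obtain ⟨k, hk, hkd⟩ := hdeg χ hχ.1
        obtain ⟨j, hj, -⟩ := hdeg χ₁ hχ₁.1
        have hjk : j < k := by
          have : e * p ^ j < e * p ^ k := by
            have := hχ₁.2
            omega
          exact (Nat.pow_lt_pow_iff_right hp.one_lt).1 (Nat.lt_of_mul_lt_mul_left this)
        obtain ⟨i, rfl⟩ := Nat.exists_eq_add_of_lt hjk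
        let T := F.filter (fun φ => deg φ ≤ n)
        have hT : ∀ φ, φ ∈ T ↔ φ ∈ X ∧ deg φ ≤ n := fun φ => by rw [Finset.mem_filter, hF]
        refine ⟨χ₁, hχ₁, (p ^ (i + 1) : ℕ), ?_, T, fun φ hφ => (hT φ).1 hφ, ?_⟩
        · rw [← irr_cast_deg (hirr χ hχ.1), ← irr_cast_deg (hirr χ₁ hχ₁.1), hk, hj]
          push_cast
          ring
        have d1 : p ^ (2 * (j + i + 1)) ∣ ∑ φ ∈ T, deg φ ^ 2 := by
          have d2 : p ^ (2 * (j + i + 1)) ∣ ∑ φ ∈ F.filter (fun φ => ¬ deg φ ≤ n), deg φ ^ 2 := by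
            refine Finset.dvd_sum fun φ hφ => ?_
            obtain ⟨hφ1, hφ2⟩ := Finset.mem_filter.1 hφ
            obtain ⟨l, hl, -⟩ := hdeg φ ((hF φ).1 hφ1)
            have : e * p ^ (j + i + 1) ≤ e * p ^ l := by omega
            have hl' := (Nat.pow_le_pow_iff_right hp.one_lt).1 (Nat.le_of_mul_le_mul_left this he)
            rw [hl, mul_pow, ← pow_mul, mul_comm l]
            exact Dvd.dvd.mul_left (pow_dvd_pow p (by omega)) _
          rw [← Finset.sum_filter_add_sum_filter_not F (fun φ => deg φ ≤ n)] at hkd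
          exact (Nat.dvd_add_left d2).1 hkd
        have d5 : e ^ 2 ∣ ∑ φ ∈ T, deg φ ^ 2 := by
          refine Finset.dvd_sum fun φ hφ => ?_
          obtain ⟨l, hl, -⟩ := hdeg φ ((hT φ).1 hφ).1
          rw [hl, mul_pow]
          exact dvd_mul_right _ _
        have d6 : deg χ ^ 2 ∣ ∑ φ ∈ T, deg φ ^ 2 := by
          rw [hk, mul_pow, ← pow_mul, mul_comm (j + i + 1)]
          exact Nat.Coprime.mul_dvd_of_dvd_of_dvd (Nat.Coprime.pow _ _ hcop) d5 d1
        have d7 : 0 < ∑ φ ∈ T, deg φ ^ 2 :=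
          Finset.sum_pos (fun φ hφ => pow_pos (irr_deg_pos (hirr φ ((hT φ).1 hφ).1)) 2)
            ⟨χ₁, (hT χ₁).2 hχ₁⟩
        have d8 : 2 * deg χ * deg χ₁ < ∑ φ ∈ T, deg φ ^ 2 := by
          refine lt_of_lt_of_le ?_ (Nat.le_of_dvd d7 d6)
          have h3 : 3 ≤ p ^ (i + 1) := le_trans (by have := hp.two_le; omega)
            (Nat.le_self_pow (by omega) p)
          have h4 : deg χ = deg χ₁ * p ^ (i + 1) := by rw [hk, hj]; ring
          have h5 := irr_deg_pos (hirr χ hχ.1)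
          have h6 := irr_deg_pos (hirr χ₁ hχ₁.1)
          have h7 : deg χ₁ * 3 ≤ deg χ := h4 ▸ Nat.mul_le_mul_left _ h3
          nlinarith
        rw [hre χ hχ.1, hre χ₁ hχ₁.1, Finset.sum_congr rfl (fun φ hφ => by
          rw [rip_eq_one_of (irr_inner_self (hirr φ ((hT φ).1 hφ).1)), div_one,
            hre φ ((hT φ).1 hφ).1])]
        exact_mod_cast d8
      · refine uniform_degree_coherence_sub hS (hcs (n + 1)) hne fun φ hφ ψ hψ => ?_
        have h1 : ¬ deg φ ≤ n := fun h => hn ⟨φ, hφ.1, h⟩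
        have h2 : ¬ deg ψ ≤ n := fun h => hn ⟨ψ, hψ.1, h⟩
        have h3 := hφ.2
        have h4 := hψ.2
        rw [← irr_cast_deg (hirr φ hφ.1), ← irr_cast_deg (hirr ψ hψ.1),
          show deg φ = deg ψ by omega]
  have hall : {χ | χ ∈ X ∧ deg χ ≤ Nat.card L} = X := by
    ext χ
    exact ⟨fun h => h.1, fun h => ⟨h, Nat.le_of_dvd Nat.card_pos (irr_deg_dvd_card (hirr χ h))⟩⟩
  have := key (Nat.card L)
  rw [hall] at this
  exact this hne

omit [Fintype L] in
/-- A subgroup which is central modulo the kernel of an irreducible character. -/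
theorem le_charCenter_of_inKer [Finite L] {K B D : Subgroup L} {θ : K → ℂ}
    (hθ : IsIrrCharacter K θ) (hB : InKer B θ)
    (hcent : ∀ d ∈ D, ∀ k ∈ K, d * k * d⁻¹ * k⁻¹ ∈ B) : D.subgroupOf K ≤ charCenter θ := by
  intro d hd
  rw [irr_mem_charCenter_iff_commutator hθ]
  intro c
  exact (char_mem_charKer_iff (irr_isCharacter hθ)).2 (hB _ (hcent d hd c c.2))

omit [Fintype L] in
theorem commutator_mem_of_sup {K Z A : Subgroup L} [A.Normal] [Z.Normal]
    (hZc : ∀ z ∈ Z, ∀ k ∈ K, z * k = k * z) (hZK : Z ≤ K) (hAK : A ≤ K) :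
    ∀ d ∈ Z ⊔ A, ∀ k ∈ K, d * k * d⁻¹ * k⁻¹ ∈ ⁅A, K⁆ := by
  intro d hd k hk
  obtain ⟨z, hz, a, ha, rfl⟩ := Subgroup.mem_sup_of_normal_left.1 hd
  have h1 : z * (a * k * a⁻¹) = (a * k * a⁻¹) * z :=
    hZc z hz _ (K.mul_mem (K.mul_mem (hAK ha) hk) (K.inv_mem (hAK ha)))
  have : z * a * k * (z * a)⁻¹ * k⁻¹ = a * k * a⁻¹ * k⁻¹ := by
    calc z * a * k * (z * a)⁻¹ * k⁻¹ = z * (a * k * a⁻¹) * z⁻¹ * k⁻¹ := by group
      _ = _ := by rw [h1]; group
  rw [this]
  exact Subgroup.commutator_mem_commutator ha hk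

/-- The coherence theorem. -/
theorem coherent_central_nilp {K Z S₀ P : Subgroup L} [K.Normal] [Z.Normal] [S₀.Normal] [P.Normal]
    (hτ : IsLinearIsometryOn (zspanOn (seqIndD K Z ⊥) {1}ᶜ) τ)
    (hτ1 : ∀ α ∈ zspanOn (seqIndD K Z ⊥) {1}ᶜ, τ α 1 = 0) (hnil : Group.IsNilpotent K) {p : ℕ}
    (hp : p.Prime) (hp2 : p ≠ 2) (hP : IsPGroup p P) (hSP : S₀ ⊓ P = ⊥) (hK : S₀ ⊔ P = K)
    (hZP : Z ≤ P) (hZ1 : Z ≠ ⊥) (hZc : ∀ z ∈ Z, ∀ k ∈ K, z * k = k * z)
    (hC : ∀ z ∈ Z, z ≠ 1 → Subgroup.centralizer ({z} : Set L) ≤ K) (he : Odd K.index) :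
    IsCoherent (seqIndD K Z ⊥) {1}ᶜ τ := by
  classical
  haveI : Fact p.Prime := ⟨hp⟩
  have hSK : S₀ ≤ K := hK ▸ le_sup_left
  have hPK : P ≤ K := hK ▸ le_sup_right
  have hZK : Z ≤ K := hZP.trans hPK
  have he0 : 0 < K.index := Nat.pos_of_ne_zero Subgroup.FiniteIndex.index_ne_zero
  obtain ⟨n, hn⟩ := IsPGroup.iff_card.1 (hP.to_le hZP)
  have hn0 : n ≠ 0 := fun h => hZ1 (Subgroup.card_eq_one.1 (by rw [hn, h, pow_zero]))
  have hZodd : Odd (Nat.card Z) := by rw [hn]; exact (hp.odd_of_ne_two hp2).pow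
  have hmod := card_modEq_one_of_cent_le hC
  have hZbig : 2 * K.index + 1 ≤ Nat.card Z := two_mul_add_one_le_of_modEq_one hmod hZodd he
    (fun h => hZ1 (Subgroup.card_eq_one.1 h))
  have hcop : Nat.Coprime K.index p := by
    have h1 : Nat.Coprime (Nat.card Z) K.index := by
      rw [Nat.Coprime, hmod.gcd_eq, Nat.gcd_one_left]
    rw [hn] at h1
    exact ((Nat.coprime_pow_left_iff (Nat.pos_of_ne_zero hn0) _ _).1 h1).symm
  have hirr : ∀ {N : Subgroup L}, ∀ χ ∈ seqIndD K Z N, IsIrrCharacter L χ :=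
    fun χ hχ => seqIndD_irr_of_cent_le hZK hC hχ
  have hnZ : ∀ A : Subgroup L, A ≤ S₀ → ¬ Z ≤ A := fun A hA h =>
    hZ1 (le_bot_iff.1 (hSP ▸ le_inf (h.trans hA) hZP))
  obtain ⟨R, hS⟩ := irr_subcoherent (seqIndD_nonempty hZK (hnZ ⊥ bot_le)) hirr
    (fun _ => seqIndD_conjFun) (fun _ => seqIndD_conjFun_ne_of_central he hZodd hZc) hτ hτ1
  have hcs : ∀ A : Subgroup L, ConjSub (seqIndD K Z A) (seqIndD K Z ⊥) := fun A =>
    seqIndD_conjSub (seqIndD_subset_bot K Z A)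
  have hre : ∀ {N : Subgroup L}, ∀ χ ∈ seqIndD K Z N, (χ 1).re = deg χ := fun χ hχ => by
    rw [← irr_cast_deg (hirr χ hχ), Complex.natCast_re]
  -- the sum of the squares of the degrees
  have hsum : ∀ (A : Subgroup L) [A.Normal], A ≤ S₀ →
      ∑ φ ∈ (seqIndD_finite K Z A).toFinset, deg φ ^ 2 + K.index * (Z ⊔ A).relIndex K =
        K.index * (Nat.card Z * (Z ⊔ A).relIndex K) := by
    intro A _ hA
    have h1 := sum_seqIndD_deg_sq' hZK (hA.trans hSK) _
      (Set.Finite.coe_toFinset (seqIndD_finite K Z A))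
    rw [Finset.sum_congr rfl (fun χ hχ => by
      rw [rip_eq_one_of (irr_inner_self (hirr χ ((Set.Finite.mem_toFinset _).1 hχ))), div_one,
        hre χ ((Set.Finite.mem_toFinset _).1 hχ)])] at h1
    have h2 : A.relIndex K = Nat.card Z * (Z ⊔ A).relIndex K := by
      rw [← Subgroup.relIndex_mul_relIndex A (Z ⊔ A) K le_sup_right (sup_le hZK (hA.trans hSK)),
        Subgroup.relIndex_sup_right, ← Subgroup.inf_relIndex_right,
        show A ⊓ Z = ⊥ from le_bot_iff.1 (hSP ▸ inf_le_inf hA hZP), Subgroup.relIndex_bot_left]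
    rw [h2] at h1
    have h3 : ((∑ φ ∈ (seqIndD_finite K Z A).toFinset, deg φ ^ 2 + K.index * (Z ⊔ A).relIndex K :
        ℕ) : ℝ) = (K.index * (Nat.card Z * (Z ⊔ A).relIndex K) : ℕ) := by
      push_cast at h1 ⊢
      linarith
    exact_mod_cast h3
  -- the index of `Z S₀` is a power of `p`
  obtain ⟨j, hj⟩ : ∃ j, (Z ⊔ S₀).relIndex K = p ^ j := by
    have h1 : (Z ⊔ S₀).relIndex K = (Z ⊔ S₀).relIndex P := by
      rw [← Subgroup.relIndex_sup_right P (Z ⊔ S₀)]
      congr 1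
      apply le_antisymm
      · rw [← hK]; exact sup_le (le_sup_of_le_right le_sup_right) le_sup_left
      · exact sup_le hPK (sup_le hZK hSK)
    rw [h1]
    exact hP.index _
  -- first stage
  have stage1 : IsCoherent (seqIndD K Z ⁅S₀, K⁆) {1}ᶜ τ := by
    have hA : ⁅S₀, K⁆ ≤ S₀ := Subgroup.commutator_le_left S₀ K
    refine coherent_of_ppow hS (hcs _) (seqIndD_finite K Z _).toFinset
      (fun _ => Set.Finite.mem_toFinset _) (seqIndD_nonempty hZK (hnZ _ hA)) hirr hp hp2 he0 hcop ?_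
    rintro _ ⟨θ, hθ, -, h3, rfl⟩
    have h4 := le_charCenter_of_inKer hθ h3 (commutator_mem_of_sup hZc hZK hSK)
    have h5 : deg θ ∣ p ^ j :=
      hj ▸ (irr_deg_dvd_index_charCenter hθ).trans (Subgroup.index_dvd_of_le h4)
    obtain ⟨k, -, hk⟩ := (Nat.dvd_prime_pow hp).1 h5
    refine ⟨k, by rw [deg_indFun K (irr_isCharacter hθ), hk], ?_⟩
    have h6 : deg θ ^ 2 ≤ p ^ j := hj ▸ irr_deg_sq_le_index hθ _ h4
    rw [hk, ← pow_mul, mul_comm] at h6
    have h7 : p ^ (2 * k) ∣ (Z ⊔ ⁅S₀, K⁆).relIndex K :=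
      (pow_dvd_pow p ((Nat.pow_le_pow_iff_right hp.one_lt).1 h6)).trans
        (hj ▸ Subgroup.relIndex_dvd_of_le_left K (sup_le_sup_left hA Z))
    have h8 := hsum _ hA
    refine (Nat.dvd_add_left (h7.mul_left K.index)).1 ?_
    rw [h8]
    exact (h7.mul_left _).mul_left _
  -- second stage
  have hcompl : (S₀.subgroupOf K).IsComplement' (P.subgroupOf K) := by
    refine Subgroup.isComplement'_of_disjoint_and_mul_eq_univ ?_ ?_
    · rw [disjoint_iff, eq_bot_iff]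
      intro x hx
      have : (x : L) ∈ S₀ ⊓ P := hx
      rw [hSP] at this
      exact Subtype.ext this
    · rw [Set.eq_univ_iff_forall]
      intro k
      obtain ⟨a, ha, b, hb, e⟩ := Subgroup.mem_sup_of_normal_left.1 (hK ▸ k.2 : (k : L) ∈ S₀ ⊔ P)
      exact ⟨⟨a, hSK ha⟩, ha, ⟨b, hPK hb⟩, hb, Subtype.ext e⟩
  have hcomm : ∀ a ∈ S₀.subgroupOf K, ∀ b ∈ P.subgroupOf K, a * b = b * a := fun a ha b hb =>
    Subtype.ext (Subgroup.commute_of_normal_of_disjoint S₀ P inferInstance inferInstance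
      (disjoint_iff.2 hSP) a b ha hb).eq
  have step : ∀ (A : Subgroup L) [A.Normal], A < S₀ → IsCoherent (seqIndD K Z A) {1}ᶜ τ →
      IsCoherent (seqIndD K Z ⁅A, K⁆) {1}ᶜ τ := by
    intro A _ hA hc
    have hAK : A ≤ K := hA.le.trans hSK
    have := extend_coherent_union hS (hcs A) (hcs ⁅A, K⁆) hc fun χ hχ _ => ?_
    · rwa [Set.union_eq_right.2 (seqIndD_mono le_rfl (Subgroup.commutator_le_left A K))] at this
    obtain ⟨θ, hθ, h2, h3, rfl⟩ := hχ
    obtain ⟨φ, ψ, hφ, hψ, e⟩ := irr_internal_exists hcompl hcomm hθ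
    obtain ⟨θ₁, hθ₁, e₁⟩ := exists_irr_internal hcompl hcomm irr_one hψ
    have e0 : θ 1 = φ 1 * ψ 1 := by simpa using e 1 1
    have e10 : θ₁ 1 = ψ 1 := by simpa using e₁ 1 1
    have k1 : ¬ InKer Z θ₁ := by
      intro h
      apply h2
      intro z hz
      have a1 : θ z = φ 1 * ψ ⟨z, hZP hz⟩ := by simpa using e 1 ⟨z, hZP hz⟩
      have a2 : θ₁ z = ψ ⟨z, hZP hz⟩ := by simpa using e₁ 1 ⟨z, hZP hz⟩
      rw [a1, e0, ← a2, h z hz, e10]
    have k2 : InKer S₀ θ₁ := by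
      intro s hs
      have a2 : θ₁ s = ψ 1 := by simpa using e₁ ⟨s, hs⟩ 1
      rw [a2, e10]
    have hm₁ : indFun K θ₁ ∈ seqIndD K Z A :=
      seqIndD_mono le_rfl hA.le (indFun_mem_seqIndD hθ₁ k1 k2)
    refine ⟨_, hm₁, deg φ, ?_, (seqIndD_finite K Z A).toFinset,
      (Set.Finite.coe_toFinset _).subset, ?_⟩
    · rw [indFun_one, indFun_one, e0, e10, Int.cast_natCast, irr_cast_deg hφ]; ring
    have b1 : deg θ ^ 2 ≤ (Z ⊔ A).relIndex K := irr_deg_sq_le_index hθ _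
      (le_charCenter_of_inKer hθ h3 (commutator_mem_of_sup hZc hZK hAK))
    have b2 : deg θ₁ ^ 2 ≤ (Z ⊔ S₀).relIndex K := irr_deg_sq_le_index hθ₁ _
      (le_charCenter_of_inKer hθ₁ k2 fun d hd k hk =>
        Subgroup.commutator_le_left S₀ K (commutator_mem_of_sup hZc hZK hSK d hd k hk))
    have b3 : (Z ⊔ S₀).relIndex K < (Z ⊔ A).relIndex K := by
      rw [← Subgroup.relIndex_mul_relIndex (Z ⊔ A) (Z ⊔ S₀) K (sup_le_sup_left hA.le Z)
        (sup_le hZK hSK)]
      refine lt_mul_of_one_lt_left (Nat.pos_of_ne_zero Subgroup.FiniteIndex.index_ne_zero) ?_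
      have c1 : (Z ⊔ A).relIndex (Z ⊔ S₀) ≠ 0 := Subgroup.FiniteIndex.index_ne_zero
      have c2 : (Z ⊔ A).relIndex (Z ⊔ S₀) ≠ 1 := by
        intro h
        rw [Subgroup.relIndex_eq_one] at h
        apply hA.not_ge
        intro s hs
        obtain ⟨z, hz, a, ha, e⟩ := Subgroup.mem_sup_of_normal_left.1 (h (Subgroup.mem_sup_right hs))
        have : z ∈ S₀ ⊓ P := ⟨by
          rw [eq_mul_inv_of_mul_eq e]; exact S₀.mul_mem hs (S₀.inv_mem (hA.le ha)), hZP hz⟩
        rw [hSP, Subgroup.mem_bot] at this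
        rw [← e, this, one_mul]; exact ha
      omega
    have b4 := hsum A hA.le
    have b5 : deg θ * deg θ₁ < (Z ⊔ A).relIndex K := by
      by_contra h
      have h' := not_lt.1 h
      have : (deg θ * deg θ₁) ^ 2 < ((Z ⊔ A).relIndex K) ^ 2 := by
        rw [mul_pow, pow_two ((Z ⊔ A).relIndex K)]
        exact Nat.mul_lt_mul_of_le_of_lt b1 (b2.trans_lt b3) (by omega)
      exact absurd (Nat.pow_le_pow_left h' 2) (not_le.2 this)
    rw [hre _ (indFun_mem_seqIndD hθ h2 h3), hre _ hm₁, Finset.sum_congr rfl (fun χ hχ => by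
      rw [rip_eq_one_of (irr_inner_self (hirr χ ((Set.Finite.mem_toFinset _).1 hχ))), div_one,
        hre χ ((Set.Finite.mem_toFinset _).1 hχ)]), deg_indFun K (irr_isCharacter hθ),
      deg_indFun K (irr_isCharacter hθ₁)]
    have b6 : 2 * (K.index * deg θ) * (K.index * deg θ₁) <
        ∑ φ ∈ (seqIndD_finite K Z A).toFinset, deg φ ^ 2 := by
      generalize (Z ⊔ A).relIndex K = m at *
      generalize ∑ φ ∈ (seqIndD_finite K Z A).toFinset, deg φ ^ 2 = s at *
      have c1 : K.index * ((2 * K.index + 1) * m) ≤ K.index * (Nat.card Z * m) :=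
        Nat.mul_le_mul_left _ (Nat.mul_le_mul_right _ hZbig)
      have c2 : 2 * K.index * K.index * (deg θ * deg θ₁) < 2 * K.index * K.index * m :=
        Nat.mul_lt_mul_of_pos_left b5 (by positivity)
      nlinarith
    exact_mod_cast b6
  have key : ∀ A : Subgroup L, A.Normal → A ≤ ⁅S₀, K⁆ → IsCoherent (seqIndD K Z A) {1}ᶜ τ →
      IsCoherent (seqIndD K Z ⊥) {1}ᶜ τ := by
    intro A
    induction A using WellFoundedLT.induction with
    | ind A ih =>
      intro hA h1 h2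
      by_cases hA1 : A = ⊥
      · exact hA1 ▸ h2
      have hAS : A ≤ S₀ := h1.trans (Subgroup.commutator_le_left S₀ K)
      have hlt : ∀ B : Subgroup L, B.Normal → B ≤ K → B ≠ ⊥ → ⁅B, K⁆ < B := fun B _ hB hB1 =>
        lt_of_le_of_ne (Subgroup.commutator_le_left B K) fun h =>
          hB1 (le_bot_of_le_commutator hnil hB h.ge)
      have h3 := hlt A hA (hAS.trans hSK) hA1
      have h4 : A < S₀ := h1.trans_lt (hlt S₀ inferInstance hSK fun h => hA1 (le_bot_iff.1 (h ▸ hAS)))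
      exact ih _ h3 inferInstance (h3.le.trans h1) (step A h4 h2)
  exact key _ inferInstance le_rfl stage1

end CL.PF
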