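import Cfsg.Agent.Base
import Cfsg.Agent.RankOneC.Coh
import Cfsg.Agent.PF.SibleyB
import Cfsg.Agent.BG.Nil
import Cfsg.Agent.BG.HallSyl

/-!
# The character-theoretic end of the proof of Theorem C
-/

set_option autoImplicit false
set_option linter.style.haveILetI false

open Cfsg CL.Char
open scoped ComplexConjugate

namespace CL.PF

/-- A character of norm two is a sum of two distinct irreducible characters. -/
theorem char_norm_two {G : Type*} [Group G] [Fintype G] {ψ : G → ℂ} (hψ : IsCharacter G ψ)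
    (h2 : classInner ψ ψ = 2) : ∃ f₁ f₂ : G → ℂ, IsIrrCharacter G f₁ ∧ IsIrrCharacter G f₂ ∧
      f₁ ≠ f₂ ∧ ψ = f₁ + f₂ := by
  have h0 : ψ ≠ 0 := by
    rintro rfl
    rw [classInner_zero_left] at h2
    norm_num at h2
  obtain ⟨f, hf, hne⟩ := char_exists_irr_constituent hψ h0
  have hc := char_sub_irr hψ hf hne
  obtain ⟨n, hn⟩ := char_inner_nat hψ (irr_isCharacter hf)
  obtain ⟨m, hm⟩ := char_inner_nat hc hc
  have hm' := hm
  rw [classInner_sub_left, classInner_sub_right, classInner_sub_right, h2, hn, irr_inner_self hf,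
    ← char_inner_comm hψ (irr_isCharacter hf), hn] at hm'
  have e : (3 : ℕ) = m + 2 * n := by
    have : ((3 : ℕ) : ℂ) = (m + 2 * n : ℕ) := by push_cast; linear_combination hm'
    exact_mod_cast this
  have hn0 : n ≠ 0 := by rintro rfl; exact hne (by rw [hn]; simp)
  have hn1 : n = 1 := by omega
  have hm1 : m = 1 := by omega
  refine ⟨f, ψ - f, hf, irr_of_char_norm_one hc (by rw [hm, hm1]; simp), fun h => ?_, by ring⟩
  have : classInner (ψ - f) f = 0 := by
    rw [classInner_sub_left, hn, irr_inner_self hf, hn1]; simp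
  rw [← h, irr_inner_self hf] at this
  exact one_ne_zero this

variable {G : Type*} [Group G] [Fintype G] {L : Subgroup G} [Fintype L] {K Z : Subgroup L}

/-- An irreducible character of `G` orthogonal to the images of a coherent family is constant on `Z^#`. -/
theorem const_of_orth [K.Normal] [Z.Normal] (hZK : Z ≤ K)
    (hirr : ∀ χ ∈ seqIndD K Z ⊥, IsIrrCharacter L χ) {ν : (L → ℂ) → (G → ℂ)}
    (hν : CoherentWith (seqIndD K Z ⊥) (fun α : L → ℂ => indFun L α) ν) {f : G → ℂ}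
    (hf : IsGeneralizedCharacter G f) (horth : ∀ χ ∈ seqIndD K Z ⊥, classInner (ν χ) f = 0) :
    ∀ z ∈ Z, ∀ z' ∈ Z, z ≠ 1 → z' ≠ 1 → f z = f z' := by
  set f' : L → ℂ := fun x => f x with hf'
  have hfg : IsGeneralizedCharacter L f' := gen_restrict hf L
  have hprop : ∀ χ ∈ seqIndD K Z ⊥, ∀ χ' ∈ seqIndD K Z ⊥,
      χ' 1 * classInner f' χ = χ 1 * classInner f' χ' := by
    intro χ hχ χ' hχ'
    obtain ⟨d, hd⟩ := char_apply_one (seqIndD_char hχ)
    obtain ⟨e, he⟩ := char_apply_one (seqIndD_char hχ')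
    have hm := deg_comb_mem (mem_zspan hχ) (mem_zspan hχ') hd he
    have h0 := iso_inner_eq_zero_left hν.iso subset_zspan horth (zspanOn_subset hm)
    rw [hν.eq hm, classInner_indFun_left L _ (gen_isClassFunction hf), classInner_sub_left,
      classInner_nsmul_left, classInner_nsmul_left, gen_inner_comm (seqIndD_gen hχ) hfg,
      gen_inner_comm (seqIndD_gen hχ') hfg] at h0
    rw [hd, he]
    linear_combination h0
  intro z hz z' hz' h1 h1'
  obtain ⟨χ₀, hχ₀⟩ : (seqIndD K Z ⊥).Nonempty :=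
    seqIndD_nonempty hZK fun h => h1 (by simpa using h hz)
  have key : ∀ χ, IsIrrCharacter L χ → (∃ x ∈ Z, χ x ≠ χ 1) →
      classInner f' χ = classInner f' χ₀ / χ₀ 1 * χ 1 := by
    intro χ hχ hx
    have hm : χ ∈ seqIndD K Z ⊥ := by
      rw [seqIndD_eq_of_irr hZK bot_le hirr]
      exact ⟨hχ, hx, fun y hy => by rw [Subgroup.mem_bot.1 hy]⟩
    have h0 := seqIndD_apply_one_ne_zero hχ₀
    have := hprop χ hm χ₀ hχ₀
    field_simp
    linear_combination this
  exact (const_of_inner_proportional (gen_isClassFunction hfg) key hz h1).trans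
    (const_of_inner_proportional (gen_isClassFunction hfg) key hz' h1').symm

/-- The two constituents of a character of norm two and odd degree which takes the value `1` on `K^#`
are orthogonal to the images of the coherent family. -/
theorem orth_of_odd [K.Normal] (hirr : ∀ χ ∈ seqIndD K Z ⊥, IsIrrCharacter L χ)
    (hnr : ∀ χ ∈ seqIndD K Z ⊥, conjFun χ ≠ χ) {ν : (L → ℂ) → (G → ℂ)}
    (hν : CoherentWith (seqIndD K Z ⊥) (fun α : L → ℂ => indFun L α) ν) {f₁ f₂ : G → ℂ}
    (h₁ : IsIrrCharacter G f₁) (h₂ : IsIrrCharacter G f₂) (hne : f₁ ≠ f₂)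
    (hK : ∀ x ∈ K, x ≠ 1 → f₁ x + f₂ x = 1) (hodd : Odd (deg f₁ + deg f₂)) :
    ∀ χ ∈ seqIndD K Z ⊥, classInner (ν χ) f₁ = 0 := by
  intro χ hχ
  obtain ⟨ε, hε, hε'⟩ := iso_exists_sign hν.iso fun α hα => by
    rw [hν.eq hα]; exact indFun_one_eq_zero L (apply_one_of_mem_zspanOn hα)
  have hχ' := seqIndD_conjFun hχ
  have e₁ := hε' χ (mem_zspan hχ) (hirr χ hχ)
  have e₂ := hε' _ (mem_zspan hχ') (hirr _ hχ')
  have hd : χ 1 = conjFun χ 1 := (char_conjFun_apply_one (seqIndD_char hχ)).symm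
  have hsub := hν.sub (mem_zspan hχ) (mem_zspan hχ') hd
  have hε0 : (ε : ℂ) ≠ 0 := by rcases hε with rfl | rfl <;> simp
  have a1 : classInner (ν χ - ν (conjFun χ)) (f₁ + f₂) = 0 := by
    rw [← hsub, classInner_indFun_left L _
      (classFun_add (irr_isClassFunction h₁) (irr_isClassFunction h₂)),
      classInner_congr_right (ψ' := fun _ => 1), classInner_sub_left, seqIndD_inner_one hχ,
      seqIndD_inner_one hχ', sub_self]
    intro x hx
    refine hK x ?_ ?_
    · by_contra h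
      exact hx (by rw [Pi.sub_apply, seqIndD_apply_eq_zero hχ h, seqIndD_apply_eq_zero hχ' h,
        sub_self])
    · rintro rfl
      exact hx (by rw [Pi.sub_apply, hd, sub_self])
  have a2 : classInner (ε • ν χ - ε • ν (conjFun χ)) (f₁ + f₂) = 0 := by
    rw [← smul_sub, classInner_zsmul_left, a1, mul_zero]
  have a3 : (ε • ν χ) 1 = (ε • ν (conjFun χ)) 1 := by
    have := congrFun hsub 1
    rw [indFun_one_eq_zero L (by rw [Pi.sub_apply, hd, sub_self]), Pi.sub_apply] at this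
    rw [Pi.smul_apply, Pi.smul_apply, sub_eq_zero.1 this.symm]
  have a4 : ε • ν χ ≠ ε • ν (conjFun χ) := by
    intro h
    have h5 : ν χ = ν (conjFun χ) := by
      rcases hε with rfl | rfl
      · simpa using h
      · simpa using h
    exact hnr χ hχ (iso_injOn hν.iso (mem_zspan hχ) (mem_zspan hχ') h5).symm
  by_contra hne0
  have b1 : ε • ν χ = f₁ := by
    refine irr_eq_of_inner_ne_zero e₁ h₁ ?_
    rw [classInner_zsmul_left]
    exact mul_ne_zero hε0 hne0
  rw [b1] at a2 a3 a4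
  rw [classInner_sub_left, classInner_add_right, classInner_add_right, irr_inner_self h₁,
    irr_inner_of_ne h₁ h₂ hne, irr_inner_of_ne e₂ h₁ a4.symm] at a2
  have b2 : ε • ν (conjFun χ) = f₂ := by
    refine irr_eq_of_inner_ne_zero e₂ h₂ fun h => ?_
    rw [h] at a2
    norm_num at a2
  rw [b2, ← irr_cast_deg h₁, ← irr_cast_deg h₂, Nat.cast_inj] at a3
  rw [a3, ← two_mul] at hodd
  exact (Nat.not_odd_iff_even.2 (even_two_mul _)) hodd

/-- The final contradiction. -/
theorem false_of_coherent [IsSimpleGroup G] [K.Normal] [Z.Normal] (hZK : Z ≤ K)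
    (hirr : ∀ χ ∈ seqIndD K Z ⊥, IsIrrCharacter L χ)
    (hnr : ∀ χ ∈ seqIndD K Z ⊥, conjFun χ ≠ χ)
    (hcoh : IsCoherent (seqIndD K Z ⊥) {1}ᶜ (fun α : L → ℂ => indFun L α)) {ψ : G → ℂ}
    (hψ : IsCharacter G ψ) (h2 : classInner ψ ψ = 2) (h1 : classInner ψ (fun _ => 1) = 0)
    (hK : ∀ x ∈ K, x ≠ 1 → ψ x = 1) {N : ℕ} (hdeg : ψ 1 = N + 1) (heven : Even N) {z : L}
    (hz : z ∈ Z) (hz1 : z ≠ 1)
    (hcong : ∀ f : G → ℂ, IsIrrCharacter G f →
      (∀ z ∈ Z, ∀ z' ∈ Z, z ≠ 1 → z' ≠ 1 → f z = f z') →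
      ∃ n d : ℤ, f z = n ∧ f 1 = d ∧ (N : ℤ) ∣ d - n) : False := by
  obtain ⟨ν, hν⟩ := coherent_exists hcoh
  obtain ⟨f₁, f₂, h₁, h₂, hne, rfl⟩ := char_norm_two hψ h2
  have hodd : Odd (deg f₁ + deg f₂) := by
    have : ((deg f₁ + deg f₂ : ℕ) : ℂ) = (N + 1 : ℕ) := by
      push_cast
      rw [irr_cast_deg h₁, irr_cast_deg h₂]; exact hdeg
    rw [Nat.cast_injective this]
    exact heven.add_one
  have o₁ := orth_of_odd hirr hnr hν h₁ h₂ hne hK hodd
  have o₂ := orth_of_odd hirr hnr hν h₂ h₁ hne.symm (fun x hx hx1 => by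
    rw [add_comm]; exact hK x hx hx1) (by rwa [add_comm])
  obtain ⟨n₁, d₁, a₁, b₁, c₁⟩ := hcong f₁ h₁ (const_of_orth hZK hirr hν (gen_of_irr h₁) o₁)
  obtain ⟨n₂, d₂, a₂, b₂, c₂⟩ := hcong f₂ h₂ (const_of_orth hZK hirr hν (gen_of_irr h₂) o₂)
  obtain ⟨i₁, i₂⟩ := char_inner_add_eq_zero (irr_isCharacter h₁) (irr_isCharacter h₂) char_one h1
  have key : ∀ (f : G → ℂ) (n d : ℤ), IsIrrCharacter G f → classInner f (fun _ => 1) = 0 →
      f z = n → f 1 = d → n < d := by
    intro f n d hf h0 a b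
    have hle : n ≤ d := by
      have := char_re_le (irr_isCharacter hf) z
      rw [a, b, Complex.intCast_re, Complex.intCast_re] at this
      exact_mod_cast this
    refine lt_of_le_of_ne hle fun h => ?_
    have hk : (z : G) ∈ charKer f := (char_mem_charKer_iff (irr_isCharacter hf)).2 (by rw [a, b, h])
    rcases (charKer_normal (irr_isClassFunction hf)).eq_bot_or_eq_top with h3 | h3
    · rw [h3] at hk
      exact hz1 (Subtype.ext hk)
    · rw [irr_eq_one_of_charKer_eq_top hf h3, classInner_one_one] at h0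
      exact one_ne_zero h0
  have l₁ := key f₁ n₁ d₁ h₁ i₁ a₁ b₁
  have l₂ := key f₂ n₂ d₂ h₂ i₂ a₂ b₂
  have s₁ : n₁ + n₂ = 1 := by
    have := hK z (hZK hz) hz1
    rw [Pi.add_apply, a₁, a₂] at this
    exact_mod_cast this
  have s₂ : d₁ + d₂ = N + 1 := by
    rw [Pi.add_apply, b₁, b₂] at hdeg
    exact_mod_cast hdeg
  have m₁ := Int.le_of_dvd (by omega) c₁
  omega

open CL.BG in
/-- The decomposition of a nilpotent normal subgroup used for the coherence theorem. -/
theorem exists_central_decomp {M : Type*} [Group M] [Finite M] {K : Subgroup M} [K.Normal]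
    (hnil : Group.IsNilpotent K) {p : ℕ} (hp : p.Prime) (hd : p ∣ Nat.card K) :
    ∃ Z S P : Subgroup M, Z.Normal ∧ S.Normal ∧ P.Normal ∧ IsPGroup p P ∧ S ⊓ P = ⊥ ∧ S ⊔ P = K ∧
      Z ≤ P ∧ Z ≠ ⊥ ∧ ∀ z ∈ Z, ∀ k ∈ K, z * k = k * z := by
  haveI : Fact p.Prime := ⟨hp⟩
  have hdp := nil_core_dp hnil {p}
  have hn : ∀ π : Set ℕ, (piCoreOf π K).Normal := fun π => by
    rw [← Subgroup.normalizer_eq_top_iff, eq_top_iff]
    refine le_trans ?_ (nil_hall_norm_le hnil (nil_hall_core hnil π))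
    rw [Subgroup.normalizer_eq_top]
  haveI := hn {p}
  have hsyl := nil_sylow_core hnil p
  refine ⟨piCoreOf {p} K ⊓ 𝐙(K), piCoreOf {p}ᶜ K, piCoreOf {p} K, inferInstance, hn _, hn _,
    hsyl.isPGroup, by rw [inf_comm]; exact hdp.disj, by rw [sup_comm]; exact hdp.sup, inf_le_left,
    nil_meet_center hnil (nil_aux_core_normal _ _) (hsyl.ne_bot_iff.2 hd), fun z hz k hk => ?_⟩
  exact (Subgroup.mem_centralizer_iff.1 hz.2.2 k hk).symm

end CL.PF
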