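import Cfsg.Agent.Base
import Cfsg.Agent.RankOne.Ind
import Cfsg.Agent.RankOneC.End
import Cfsg.Agent.RankOneC.Congr
import Cfsg.Agent.Char.PermChar
import Cfsg.Agent.S1129
import Cfsg.Agent.S0205

/-!
# The second case (Peterfalvi, Part II, Chapter III, Theorem C)
-/

set_option autoImplicit false
set_option linter.unusedSectionVars false
set_option linter.style.haveILetI false

namespace CL.RankOne

open Cfsg MulAction CL.Char CL.PF
open scoped ComplexConjugate

variable {G Ω : Type*} [Group G] [MulAction G Ω] {a : Ω} {t : G} {Q : Subgroup G}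
  (hS : IsRankOneSetup G Ω a t Q) [Finite G]
include hS

theorem normalizer_Q : Subgroup.normalizer (Q : Set G) = stabilizer G a := by
  refine le_antisymm (fun g hg => ?_) (stabilizer_le_normalizer hS)
  obtain ⟨s, hs, hs1, -⟩ := exists_invol_mem_Q hS
  exact smul_eq_of_conj_mem hS hs1 (smul_of_mem_Q hS hs) ((Subgroup.mem_normalizer_iff.1 hg s).1 hs)

theorem isTISubset_Q : IsTISubset (Q : Set G) := by
  intro g hg x hx h
  by_contra hx1
  rw [normalizer_Q hS] at hg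
  exact hg (smul_eq_of_conj_mem hS hx1 (smul_of_mem_Q hS hx) h)

theorem index_subgroupOf_Q : (Q.subgroupOf (stabilizer G a)).index = Nat.card (DD a t) := by
  have h1 := (Q.subgroupOf (stabilizer G a)).card_mul_index
  rw [card_stabilizer hS, card_subgroupOf, inf_eq_left.2 hS.le] at h1
  exact Nat.eq_of_mul_eq_mul_left Nat.card_pos h1

theorem card_fixedBy_of_mem_Q {x : G} (hx : x ∈ Q) (hx1 : x ≠ 1) : Nat.card (fixedBy Ω x) = 1 := by
  rw [Nat.card_eq_one_iff_exists]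
  refine ⟨⟨a, smul_of_mem_Q hS hx⟩, fun c => Subtype.ext ?_⟩
  by_contra h
  exact hx1 (eq_one_of_mem_Q_of_smul hS hx h c.2)

/-- A non-trivial linear character of `H` whose kernel contains `Q K`. -/
theorem exists_linear_QK [Group.IsSolvable (DD a t)] (hnil : Group.IsNilpotent Q)
    (hV : VV a t ≠ ⊥) : ∃ lam : stabilizer G a →* ℂˣ, lam ≠ 1 ∧
      (∀ x : stabilizer G a, (x : G) ∈ Q → lam x = 1) ∧
      ∀ x : stabilizer G a, (x : G) ∈ KK a t → lam x = 1 := by
  let M : Subgroup (stabilizer G a) :=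
    { carrier := {h | ∃ q ∈ Q, ∃ k ∈ KK a t, (h : G) = q * k}
      one_mem' := ⟨1, Q.one_mem, 1, one_mem_invertedBy, by simp⟩
      mul_mem' := by
        rintro x y ⟨q, hq, k, hk, e⟩ ⟨q', hq', k', hk', e'⟩
        refine ⟨q * (k * q' * k⁻¹), Q.mul_mem hq (conj_mem_Q hS hk.1.1 hq'), k * k',
          mul_mem_KK hS hk hk', ?_⟩
        rw [Subgroup.coe_mul, e, e']; group
      inv_mem' := by
        rintro x ⟨q, hq, k, hk, e⟩
        refine ⟨k⁻¹ * q⁻¹ * k, conj_mem_Q' hS hk.1.1 (Q.inv_mem hq), k⁻¹, inv_mem_invertedBy hk, ?_⟩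
        rw [Subgroup.coe_inv, e]; group }
  haveI : M.Normal := ⟨by
    rintro x ⟨q, hq, k, hk, e⟩ g
    obtain ⟨r, hr, d, hd, e'⟩ := decomp hS g.2
    have hk' := conj_mem_KK_of_mem_DD hS hk hd
    refine ⟨r * (d * q * d⁻¹) * ((d * k * d⁻¹) * r⁻¹ * (d * k * d⁻¹)⁻¹),
      Q.mul_mem (Q.mul_mem hr (conj_mem_Q hS hd.1 hq)) (conj_mem_Q hS hk'.1.1 (Q.inv_mem hr)),
      d * k * d⁻¹, hk', ?_⟩
    rw [Subgroup.coe_mul, Subgroup.coe_mul, Subgroup.coe_inv, e, e']; group⟩
  have hM : M < ⊤ := by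
    rw [lt_top_iff_ne_top]
    intro h
    apply hV
    rw [eq_bot_iff]
    intro v hv
    obtain ⟨q, hq, k, hk, e⟩ : (⟨v, hv.1.1⟩ : stabilizer G a) ∈ M := by rw [h]; trivial
    have := (decomp_unique hS Q.one_mem hq hv.1 hk.1 ((one_mul v).trans e)).2
    exact eq_one_of_mem_KK_of_mem_VV hS (this ▸ hk) hv
  have hsolv : Group.IsSolvable (stabilizer G a) := by
    have := CL.BG.solvable_sup (inf_le_left.trans (stabilizer_le_normalizer hS))
      (CL.BG.solvable_of_nil hnil) (inferInstance : Group.IsSolvable (DD a t))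
    rwa [hS.sup_eq] at this
  have h1 := commutator_sup_lt (inferInstance : Group.IsSolvable (⊤ : Subgroup (stabilizer G a))) hM
  obtain ⟨g, -, hg⟩ := SetLike.exists_of_lt h1
  obtain ⟨lam, h2, h3⟩ := exists_linear_trivial_on_apply_ne_one (N := ⁅⊤, ⊤⁆ ⊔ M) le_sup_left hg
  refine ⟨lam, fun h => h3 (by rw [h]; rfl), fun x hx => h2 (Subgroup.mem_sup_right ?_),
    fun x hx => h2 (Subgroup.mem_sup_right ?_)⟩
  · exact ⟨x, hx, 1, one_mem_invertedBy, (mul_one _).symm⟩
  · exact ⟨1, Q.one_mem, x, hx, (one_mul _).symm⟩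

/-- A linear character of `H` trivial on `K` is invariant under fusion in `G`. -/
theorem linear_fusion (lam : stabilizer G a →* ℂˣ)
    (hK : ∀ x : stabilizer G a, (x : G) ∈ KK a t → lam x = 1) (h : stabilizer G a) (g : G)
    (hg : g * h * g⁻¹ ∈ stabilizer G a) : lam ⟨g * h * g⁻¹, hg⟩ = lam h := by
  have hc : ∀ (x y z : stabilizer G a), (z : G) = y * x * (y : G)⁻¹ → lam z = lam x := by
    intro x y z e
    have : z = y * x * y⁻¹ := Subtype.ext e
    rw [this, map_mul, map_mul, map_inv, mul_inv_cancel_comm]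
  by_cases hga : g • a = a
  · exact hc h ⟨g, hga⟩ _ rfl
  obtain ⟨x, y, hx, hy, rfl⟩ := canon_exists hS hga
  have hya := smul_of_mem_Q hS hy
  have h1 : (y * h * y⁻¹) • a = a := by
    rw [mul_smul, mul_smul, smul_of_mem_Q hS (Q.inv_mem hy), h.2, hya]
  have h2 : (t * (y * h * y⁻¹) * t) • a = a := by
    have e : t * (y * h * y⁻¹) * t = x⁻¹ * (x * t * y * h * (x * t * y)⁻¹) * x := by
      rw [mul_inv_rev, mul_inv_rev, t_inv hS]; group
    rw [e, mul_smul, mul_smul, hx, hg, inv_smul_eq_iff, hx]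
  have hd : y * h * y⁻¹ ∈ DD a t := by
    refine ⟨h1, ?_⟩
    change (y * h * y⁻¹) • t • a = t • a
    rw [mul_smul, mul_smul] at h2
    exact (tta hS _).symm.trans (congrArg (t • ·) h2)
  obtain ⟨v, hv, k, hk, e⟩ := exists_V_mul_K hS hd
  have e2 : t * (y * h * y⁻¹) * t = v * k⁻¹ := by
    rw [e, ← t_conj_of_mem_KK hS hk, ← t_conj_of_mem_VV hS hv]
    calc t * (t * v * t * k) * t = (t * t) * v * t * k * t := by group
      _ = t * v * t * (t * k * t) := by
        rw [hS.mul_self, one_mul, t_conj_of_mem_VV hS hv]; group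
  have a1 : lam ⟨_, hg⟩ = lam ⟨_, h2⟩ := hc _ ⟨x, hx⟩ _ (by
    change x * t * y * h * (x * t * y)⁻¹ = x * (t * (y * h * y⁻¹) * t) * x⁻¹
    rw [mul_inv_rev, mul_inv_rev, t_inv hS]; group)
  have a2 : lam ⟨_, h1⟩ = lam h := hc _ ⟨y, hya⟩ _ rfl
  have a3 : (⟨_, h2⟩ : stabilizer G a) = ⟨v, hv.1.1⟩ * ⟨k, hk.1.1⟩⁻¹ := Subtype.ext e2
  have a4 : (⟨_, h1⟩ : stabilizer G a) = ⟨v, hv.1.1⟩ * ⟨k, hk.1.1⟩ := Subtype.ext e
  rw [a1, ← a2, a3, a4, map_mul, map_mul, map_inv, hK ⟨k, hk.1.1⟩ hk, inv_one]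

theorem indFun_linear_apply [Fintype G] (lam : stabilizer G a →* ℂˣ)
    (hK : ∀ x : stabilizer G a, (x : G) ∈ KK a t → lam x = 1) (h : stabilizer G a) :
    indFun (stabilizer G a) (fun x => (lam x : ℂ)) h = lam h * Nat.card (fixedBy Ω (h : G)) := by
  haveI : IsPretransitive G Ω := ⟨trans hS⟩
  rw [card_fixedBy_eq_indFun Ω a, indFun_apply', indFun_apply', mul_left_comm,
    Finset.mul_sum _ _ (lam h : ℂ)]
  congr 1
  refine Finset.sum_congr rfl fun g _ => ?_
  by_cases hg : g * h * g⁻¹ ∈ stabilizer G a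
  · rw [extendByZero_of_mem _ _ hg, extendByZero_of_mem _ _ hg, linear_fusion hS lam hK h g hg,
      mul_one]
  · rw [extendByZero_of_not_mem _ _ hg, extendByZero_of_not_mem _ _ hg, mul_zero]

theorem classInner_indFun_linear [Fintype G] (lam : stabilizer G a →* ℂˣ)
    (hK : ∀ x : stabilizer G a, (x : G) ∈ KK a t → lam x = 1) :
    classInner (indFun (stabilizer G a) (fun x => (lam x : ℂ)))
      (indFun (stabilizer G a) (fun x => (lam x : ℂ))) = 2 := by
  classical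
  haveI : IsPretransitive G Ω := ⟨trans hS⟩
  haveI := finite_Ω hS
  haveI : Nontrivial Ω := ⟨t • a, a, ta_ne hS⟩
  have h1 := classInner_fixedBy_fixedBy (G := G) Ω Ω
  rw [(card_orbits_prod_eq_two_iff Ω).2 hS.two_transitive] at h1
  have h2 : (fun g : G => (Nat.card (fixedBy Ω g) : ℂ)) = indFun (stabilizer G a) (fun _ => 1) :=
    funext fun g => card_fixedBy_eq_indFun Ω a g
  nth_rewrite 1 [h2] at h1
  rw [classInner_indFun_left _ _ (char_isClassFunction (char_fixedBy Ω))] at h1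
  rw [classInner_indFun_left _ _ (indFun_isClassFunction _ _), ← Nat.cast_two, ← h1, classInner_def,
    classInner_def]
  congr 1
  refine Finset.sum_congr rfl fun h _ => ?_
  rw [indFun_linear_apply hS lam hK, map_mul, ← mul_assoc, linear_mul_conj]

section

variable (hC : ∀ x ∈ VV a t, (orderOf x).Prime → IsPGroup 2 ↥(Q ⊓ Subgroup.centralizer {x}))
include hC

theorem two_elt_of_commute {d z : G} (hd : d ∈ DD a t) (hd1 : d ≠ 1) (hz : z ∈ Q)
    (hc : Commute d z) : ∃ k, z ^ 2 ^ k = 1 := by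
  by_cases hz1 : z = 1
  · exact ⟨0, by rw [hz1, one_pow]⟩
  obtain ⟨p, hp, hpd⟩ := Nat.exists_prime_and_dvd (fun h => hd1 (orderOf_eq_one_iff.1 h))
  have ho : orderOf (d ^ (orderOf d / p)) = p := orderOf_pow_orderOf_div (orderOf_pos d).ne' hpd
  set x := d ^ (orderOf d / p)
  have hx : x ∈ DD a t := Subgroup.pow_mem _ hd _
  have hxz : Commute x z := hc.pow_left _
  obtain ⟨k, hk, h⟩ := exists_K_conj_mem_VV hS (X := {x}) (by simpa using hx)
    ⟨a, t • a, z • t • a, (ta_ne hS).symm,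
      (smul_ne_of_smul_eq hS (smul_of_mem_Q hS hz) (ta_ne hS)).symm,
      fun h => hz1 (eq_one_of_mem_Q_of_smul_ta hS hz h.symm), by
        rintro _ rfl
        exact ⟨hx.1, hx.2, by rw [smul_smul, hxz.eq, mul_smul, hx.2]⟩⟩
  have h1 : (orderOf (k * x * k⁻¹)).Prime := by
    have : orderOf (k * x * k⁻¹) = orderOf x := (MulAut.conj k).orderOf_eq x
    rw [this, ho]; exact hp
  obtain ⟨m, hm⟩ := hC _ (h x rfl) h1 ⟨k * z * k⁻¹, conj_mem_Q hS hk.1.1 hz,
    Subgroup.mem_centralizer_singleton_iff.2 (by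
      calc k * z * k⁻¹ * (k * x * k⁻¹) = k * (z * x) * k⁻¹ := by group
        _ = _ := by rw [← hxz.eq]; group)⟩
  refine ⟨m, ?_⟩
  have h2 : (k * z * k⁻¹) ^ 2 ^ m = 1 := congrArg Subtype.val hm
  rw [conj_pow] at h2
  simpa using h2

/-- The centraliser of a central element of odd order of `Q` is `Q`. -/
theorem mem_Q_of_commute_central {z : G} (hz : z ∈ Q) (hz1 : z ≠ 1) (hodd : Odd (orderOf z))
    (hzc : ∀ y ∈ Q, z * y = y * z) {g : G} (hg : Commute g z) : g ∈ Q := by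
  obtain ⟨q, hq, d, hd, rfl⟩ := decomp hS (smul_eq_of_commute hS hz1 hz hg)
  have h1 : Commute d z := by
    have h2 : Commute q⁻¹ z := (hzc _ (Q.inv_mem hq)).symm
    simpa using h2.mul_left hg
  by_cases hd1 : d = 1
  · rw [hd1, mul_one]; exact hq
  obtain ⟨k, hk⟩ := two_elt_of_commute hS hC hd hd1 hz h1
  have h3 : (orderOf z).Coprime (2 ^ k) := (Nat.coprime_two_right.2 hodd).pow_right k
  exact absurd (orderOf_eq_one_iff.1 (h3.eq_one_of_dvd (orderOf_dvd_of_pow_eq_one hk))) hz1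

theorem exists_good_Z (hnil : Group.IsNilpotent Q) {p : ℕ} (hp : p.Prime) (hp2 : p ≠ 2)
    (hd : p ∣ Nat.card Q) : ∃ Z S P : Subgroup (stabilizer G a), Z.Normal ∧ S.Normal ∧ P.Normal ∧
      IsPGroup p P ∧ S ⊓ P = ⊥ ∧ S ⊔ P = Q.subgroupOf _ ∧ Z ≤ P ∧ Z ≠ ⊥ ∧
      (∀ z ∈ Z, ∀ k ∈ Q.subgroupOf _, z * k = k * z) ∧ (∀ z ∈ Z, Odd (orderOf z)) ∧
      ∀ z ∈ Z, z ≠ 1 → Subgroup.centralizer {z} ≤ Q.subgroupOf _ := by
  haveI := (tiNormal_subgroupOf hS.le (isTISubset_Q hS) (normalizer_Q hS)).normal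
  haveI : Fact p.Prime := ⟨hp⟩
  have hnil' : Group.IsNilpotent (Q.subgroupOf (stabilizer G a)) :=
    nilpotent_of_mulEquiv (Subgroup.subgroupOfEquivOfLe hS.le).symm
  obtain ⟨Z, S, P, h1, h2, h3, h4, h5, h6, h7, h8, h9⟩ := exists_central_decomp hnil' hp
    (by rwa [card_subgroupOf, inf_eq_left.2 hS.le])
  have hodd : ∀ z ∈ Z, Odd (orderOf z) := by
    intro z hz
    obtain ⟨k, hk⟩ := h4 ⟨z, h7 hz⟩
    have : orderOf z ∣ p ^ k := orderOf_dvd_of_pow_eq_one (congrArg Subtype.val hk)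
    exact (hp.odd_of_ne_two hp2).pow.of_dvd_nat this
  refine ⟨Z, S, P, h1, h2, h3, h4, h5, h6, h7, h8, h9, hodd, fun z hz hz1 g hg => ?_⟩
  have hzQ : z ∈ Q.subgroupOf _ := h6 ▸ Subgroup.mem_sup_right (h7 hz)
  refine mem_Q_of_commute_central hS hC (z := (z : G)) hzQ (fun h => hz1 (Subtype.ext h))
    ((Subgroup.orderOf_coe z).symm ▸ hodd z hz :)
    (fun y hy => congrArg Subtype.val (h9 z hz ⟨y, hS.le hy⟩ hy)) ?_
  exact congrArg Subtype.val (Subgroup.mem_centralizer_singleton_iff.1 hg)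

theorem coprime_card_Q_DD (hnil : Group.IsNilpotent Q) :
    Nat.Coprime (Nat.card Q) (Nat.card (DD a t)) := by
  refine Nat.coprime_of_dvd fun p hp h1 h2 => ?_
  by_cases hp2 : p = 2
  · subst hp2
    exact (Nat.not_even_iff_odd.2 hS.odd_card) (even_iff_two_dvd.2 h2)
  haveI : Fact p.Prime := ⟨hp⟩
  obtain ⟨Z, S, P, a1, -, -, a4, -, -, a7, a8, -, -, a11⟩ := exists_good_Z hS hC hnil hp hp2 h1
  have h3 := card_modEq_one_of_cent_le a11
  rw [index_subgroupOf_Q hS] at h3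
  obtain ⟨n, hn⟩ := IsPGroup.iff_card.1 (a4.to_le a7)
  have hn0 : n ≠ 0 := fun h => a8 (Subgroup.card_eq_one.1 (by rw [hn, h, pow_zero]))
  have h4 := (h3.of_dvd h2).symm.trans ((Nat.modEq_zero_iff_dvd).2 (hn ▸ dvd_pow_self p hn0))
  exact hp.one_lt.ne' (Nat.dvd_one.1 ((Nat.modEq_zero_iff_dvd).1 h4))

end

omit hS [Finite G] in
/-- Theorem C: if `G` is simple, `V ≠ 1` and the centralisers in `Q` of the elements of prime order of `V`
are 2-groups, then `Q` is a 2-group. -/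
theorem thmC (hS : IsRankOneSetup G Ω a t Q) [Finite G] [FaithfulSMul G Ω] [IsSimpleGroup G]
    (hq : 2 < Nat.card (Q0 G a)) (hV : VV a t ≠ ⊥)
    (hC : ∀ x ∈ VV a t, (orderOf x).Prime → IsPGroup 2 ↥(Q ⊓ Subgroup.centralizer {x})) :
    IsPGroup 2 Q := by
  classical
  by_contra h2
  obtain ⟨p, hp, hp2, hd⟩ : ∃ p : ℕ, p.Prime ∧ p ≠ 2 ∧ p ∣ Nat.card Q := by
    by_contra h
    push Not at h
    apply h2
    refine IsPGroup.of_card (Nat.eq_prime_pow_of_unique_prime_dvd Nat.card_pos.ne' ?_)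
    intro d hd hdd
    by_contra h3
    exact h d hd h3 hdd
  haveI : Fintype G := Fintype.ofFinite G
  haveI : Group.IsSolvable (DD a t) := Cfsg.Agent.S0205.result hS.odd_card
  have hnil := Cfsg.Agent.S1129.result hS ((two_lt_card_Q0_iff hS).1 hq)
  have hTI := tiNormal_subgroupOf hS.le (isTISubset_Q hS) (normalizer_Q hS)
  haveI := hTI.normal
  have hnil' : Group.IsNilpotent (Q.subgroupOf (stabilizer G a)) :=
    nilpotent_of_mulEquiv (Subgroup.subgroupOfEquivOfLe hS.le).symm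
  obtain ⟨Z, S, P, a1, a2, a3, a4, a5, a6, a7, a8, a9, a10, a11⟩ :=
    exists_good_Z hS hC hnil hp hp2 hd
  have he : Odd (Q.subgroupOf (stabilizer G a)).index := by
    rw [index_subgroupOf_Q hS]; exact hS.odd_card
  have hZK : Z ≤ Q.subgroupOf _ := a6 ▸ a7.trans le_sup_right
  have hZodd : Odd (Nat.card Z) :=
    odd_card_of_no_invol fun x hx h => eq_one_of_odd_of_mul_self (a10 x hx) h
  have hcoh := coherent_central_nilp (hTI.iso_seqIndD Z ⊥)
    (fun α hα => indFun_one_eq_zero _ (apply_one_of_mem_zspanOn hα)) hnil' hp hp2 a4 a5 a6 a7 a8 a9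
    a11 he
  obtain ⟨lam, l1, l2, l3⟩ := exists_linear_QK hS hnil hV
  obtain ⟨⟨z, hz⟩, hz1⟩ := Subgroup.ne_bot_iff_exists_ne_one.1 a8
  have hz1' : z ≠ 1 := fun h => hz1 (Subtype.ext h)
  have hzG : (z : G) ≠ 1 := fun h => hz1' (Subtype.ext h)
  have hzQ : (z : G) ∈ Q := hZK hz
  have hzc : ∀ y ∈ Q, (z : G) * y = y * z :=
    fun y hy => congrArg Subtype.val (a9 z hz ⟨y, hS.le hy⟩ hy)
  have hzo : Odd (orderOf (z : G)) := by rw [Subgroup.orderOf_coe]; exact a10 z hz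
  refine false_of_coherent hZK (fun χ hχ => seqIndD_irr_of_cent_le hZK a11 hχ)
    (fun χ hχ => seqIndD_conjFun_ne_of_central he hZodd a9 hχ) hcoh
    (char_indFun _ (isCharacter_linear lam)) (classInner_indFun_linear hS lam l3) ?_
    (fun x hx hx1 => ?_) (N := Nat.card Q) ?_ hS.even_card hz hz1' (fun f hf hconst => ?_)
  · rw [classInner_indFun_one, classInner_one_right, sum_linear_eq_zero l1, mul_zero]
  · rw [indFun_linear_apply hS lam l3, l2 x hx,
      card_fixedBy_of_mem_Q hS (x := (x : G)) hx fun h => hx1 (Subtype.ext h)]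
    simp
  · rw [indFun_one, index_stabilizer_eq hS]
    simp
  · refine const_congruence Q (Z.map (stabilizer G a).subtype) ?_ hf ?_
      (Subgroup.mem_map_of_mem _ hz) hzG ?_ ?_
    · rintro x hx hx1 _ ⟨w, hw, rfl⟩ hw1 u hu hxu
      obtain ⟨g, rfl⟩ := isConj_iff.1 hu
      have h3 := smul_eq_of_commute hS hx1 hx (mul_inv_eq_iff_eq_mul.1 hxu).symm
      have h4 : g⁻¹ • a = a := smul_eq_of_conj_mem hS (conj_ne_one hw1 g) h3 (by
        have : g⁻¹ * (g * (w : G) * g⁻¹) * g⁻¹⁻¹ = w := by group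
        exact this ▸ hZK hw)
      have h5 : g • a = a := by rw [inv_smul_eq_iff] at h4; exact h4.symm
      exact ⟨⟨g, h5⟩ * w * ⟨g, h5⟩⁻¹, a1.conj_mem w hw _, rfl⟩
    · rintro _ ⟨w, hw, rfl⟩ _ ⟨w', hw', rfl⟩ h h'
      exact hconst w hw w' hw' (fun e => h (congrArg Subtype.val e))
        (fun e => h' (congrArg Subtype.val e))
    · intro h
      obtain ⟨g, hg⟩ := isConj_iff.1 h
      have h3 : Commute (g * g) z := by
        have : g * g * z * (g * g)⁻¹ = z := by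
          calc g * g * z * (g * g)⁻¹ = g * (g * z * g⁻¹) * g⁻¹ := by group
            _ = g * (z : G)⁻¹ * g⁻¹ := by rw [hg]
            _ = (g * z * g⁻¹)⁻¹ := by group
            _ = z := by rw [hg, inv_inv]
        exact mul_inv_eq_iff_eq_mul.1 this
      have h4 := mem_Q_of_commute_central hS hC hzQ hzG hzo hzc h3
      obtain ⟨q, hq', d, hd', rfl⟩ := decomp hS (smul_eq_of_conj_mem hS hzG z.2
        (hg ▸ Q.inv_mem hzQ))
      have h5 : d * d ∈ Q := by
        have : d * d = (q * (d * q * d⁻¹))⁻¹ * (q * d * (q * d)) := by group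
        rw [this]
        exact Q.mul_mem (Q.inv_mem (Q.mul_mem hq' (conj_mem_Q hS hd'.1 hq'))) h4
      have h6 := eq_one_of_mem_DD_of_mul_self hS hd'
        (eq_one_of_mem_Q_of_mem_DD hS h5 (Subgroup.mul_mem _ hd' hd'))
      rw [h6, mul_one, ← hzc q hq', mul_inv_cancel_right] at hg
      exact hzG (eq_one_of_odd_of_mul_self hzo (mul_eq_one_iff_eq_inv.2 hg))
    · have h3 : Q.index = Nat.card (DD a t) * (Nat.card Q + 1) := by
        have h1 := Q.card_mul_index
        rw [card_G hS, mul_assoc] at h1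
        exact Nat.eq_of_mul_eq_mul_left Nat.card_pos h1
      refine Nat.Coprime.coprime_dvd_right (Subgroup.index_dvd_of_le (H := Q) fun y hy =>
        Subgroup.mem_centralizer_singleton_iff.2 (hzc y hy).symm) ?_
      rw [h3]
      exact (coprime_card_Q_DD hS hC hnil).mul_right (by simp)

end CL.RankOne
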